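import Groth.Agent.SGA3xLib.SchemImage26
import Groth.Agent.AlgGrpLib.Equidim
import Groth.Agent.DimLib.Morphism
import Groth.Agent.DimLib.BaseChange

/-! dim G = dim u(G) + dim Ker u for a qc homomorphism of groups lft over a field, or an artinian local ring. -/

set_option autoImplicit false
set_option linter.style.haveILetI false
set_option backward.isDefEq.respectTransparency.types false

universe u

open CategoryTheory CategoryTheory.Limits MonoidalCategory CartesianMonoidalCategory MonObj GrpObj AlgebraicGeometry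

noncomputable section

namespace Groth.Agent.GrpImage26

variable {k : Type u} [Field k]

local notation "𝕊" => Spec (CommRingCat.of k)

/-- Fibres of a homomorphism through rational translates are isomorphic to the kernel. -/
theorem exists_iso_translate {S : Scheme.{u}} {G C T : Over S} [GrpObj G] [GrpObj C] (f : G ⟶ C) [IsMonHom f]
    (x : T ⟶ G) :
    Nonempty (pullback f.left (x ≫ f).left ≅ pullback f.left (toUnit T ≫ η[C]).left) := by
  have h1 : toUnit T ≫ η[C] = (1 : T ⟶ C) := rfl
  rw [h1]
  have e : ∀ {W : Over S} (p : W ⟶ T), p ≫ (1 : T ⟶ C) = 1 := fun p => MonObj.comp_one p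
  obtain ⟨a, ha1, ha2⟩ : ∃ a : pullback f (x ≫ f) ⟶ pullback f (1 : T ⟶ C),
      a ≫ pullback.fst _ _ = pullback.fst f (x ≫ f) * (pullback.snd f (x ≫ f) ≫ x)⁻¹ ∧
      a ≫ pullback.snd _ _ = pullback.snd _ _ :=
    ⟨pullback.lift _ _ (by rw [e, MonObj.mul_comp, GrpObj.inv_comp, pullback.condition, Category.assoc, mul_inv_cancel]),
      pullback.lift_fst _ _ _, pullback.lift_snd _ _ _⟩
  obtain ⟨b, hb1, hb2⟩ : ∃ b : pullback f (1 : T ⟶ C) ⟶ pullback f (x ≫ f),
      b ≫ pullback.fst _ _ = pullback.fst f (1 : T ⟶ C) * (pullback.snd f (1 : T ⟶ C) ≫ x) ∧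
      b ≫ pullback.snd _ _ = pullback.snd _ _ :=
    ⟨pullback.lift _ _ (by rw [MonObj.mul_comp, pullback.condition, e, _root_.one_mul, Category.assoc]),
      pullback.lift_fst _ _ _, pullback.lift_snd _ _ _⟩
  refine ⟨(PreservesPullback.iso (Over.forget S) f (x ≫ f)).symm ≪≫ (Over.forget S).mapIso
    { hom := a, inv := b, hom_inv_id := ?_, inv_hom_id := ?_ } ≪≫ PreservesPullback.iso (Over.forget S) f 1⟩
  · apply pullback.hom_ext
    · rw [Category.assoc, hb1, MonObj.comp_mul, ha1, ← Category.assoc, ha2, Category.id_comp, inv_mul_cancel_right]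
    · rw [Category.assoc, hb2, ha2, Category.id_comp]
  · apply pullback.hom_ext
    · rw [Category.assoc, ha1, MonObj.comp_mul, hb1, GrpObj.comp_inv, ← Category.assoc, hb2, Category.id_comp,
        mul_inv_cancel_right]
    · rw [Category.assoc, ha2, hb2, Category.id_comp]

/-- All fibres of a surjective homomorphism have the dimension of the kernel. -/
theorem dim_fiber_eq_ker {G C : Over 𝕊} [GrpObj G] [GrpObj C] [LocallyOfFiniteType G.hom]
    [LocallyOfFiniteType C.hom] (f : G ⟶ C) [IsMonHom f] (x : G.left) :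
    topologicalKrullDim ↥(f.left.fiber (f.left.base x)) =
      topologicalKrullDim ↥(pullback f.left (η[C] : 𝟙_ (Over 𝕊) ⟶ C).left) := by
  haveI : LocallyOfFiniteType f.left := by
    have h : LocallyOfFiniteType (f.left ≫ C.hom) := by rw [Over.w]; infer_instance
    exact locallyOfFiniteType_of_comp f.left C.hom
  let y := f.left.base x
  let L := G.left.residueField x
  letI : Algebra k L := (DimLib.baseRingHom G.hom x).toAlgebra
  letI : Algebra (C.left.residueField y) L := (f.left.residueFieldMap x).hom.toAlgebra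
  let T : Over 𝕊 := Over.mk (G.left.fromSpecResidueField x ≫ G.hom)
  let xt : T ⟶ G := Over.homMk (G.left.fromSpecResidueField x) rfl
  obtain ⟨φ⟩ := exists_iso_translate f xt
  haveI : LocallyOfFiniteType (f.left.fiberToSpecResidueField y) :=
    MorphismProperty.pullback_snd (P := @LocallyOfFiniteType) _ _ inferInstance
  have hk : Spec.map (CommRingCat.ofHom (algebraMap k L)) = G.left.fromSpecResidueField x ≫ G.hom :=
    DimLib.specMap_baseRingHom G.hom x
  have hy : Spec.map (CommRingCat.ofHom (algebraMap (C.left.residueField y) L)) ≫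
      C.left.fromSpecResidueField y = G.left.fromSpecResidueField x ≫ f.left :=
    f.left.SpecMap_residueFieldMap_fromSpecResidueField x
  have hT : (toUnit T ≫ (η[C] : 𝟙_ (Over 𝕊) ⟶ C)).left =
      Spec.map (CommRingCat.ofHom (algebraMap k L)) ≫ (η[C] : 𝟙_ (Over 𝕊) ⟶ C).left := by
    rw [hk, Over.comp_left]; rfl
  haveI : LocallyOfFiniteType (pullback.snd f.left (η[C] : 𝟙_ (Over 𝕊) ⟶ C).left) :=
    MorphismProperty.pullback_snd (P := @LocallyOfFiniteType) _ _ inferInstance
  rw [← DimLib.topologicalKrullDim_bc (k := C.left.residueField y) (f.left.fiberToSpecResidueField y) L]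
  refine Eq.trans ?_ (DimLib.topologicalKrullDim_bc (k := k) (pullback.snd f.left (η[C] : 𝟙_ (Over 𝕊) ⟶ C).left) L)
  let e1 := pullbackLeftPullbackSndIso f.left (C.left.fromSpecResidueField y)
    (Spec.map (CommRingCat.ofHom (algebraMap (C.left.residueField y) L)))
  let e2 := pullbackLeftPullbackSndIso f.left (η[C] : 𝟙_ (Over 𝕊) ⟶ C).left
    (Spec.map (CommRingCat.ofHom (algebraMap k L)))
  exact (e1 ≪≫ pullback.congrHom rfl hy ≪≫ φ ≪≫ pullback.congrHom rfl hT ≪≫ e2.symm).hom.homeomorph.isHomeomorph.topologicalKrullDim_eq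

theorem dim_add {G C : Over 𝕊} [GrpObj G] [GrpObj C] [LocallyOfFiniteType G.hom]
    [LocallyOfFiniteType C.hom] (f : G ⟶ C) [IsMonHom f] [Surjective f.left] :
    topologicalKrullDim G.left = topologicalKrullDim C.left +
      topologicalKrullDim ↥(pullback f.left (η[C] : 𝟙_ (Over 𝕊) ⟶ C).left) := by
  haveI : LocallyOfFiniteType (f.left ≫ C.hom) := by rw [Over.w]; infer_instance
  haveI : LocallyOfFiniteType f.left := locallyOfFiniteType_of_comp f.left C.hom
  have hw : f.left ≫ C.hom = G.hom := Over.w f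
  have hp : ∀ (y : C.left), LocallyOfFiniteType (f.left.fiberToSpecResidueField y) := fun y =>
    MorphismProperty.pullback_snd (P := @LocallyOfFiniteType) _ _ inferInstance
  refine le_antisymm ?_ ?_
  · rw [DimLib.topologicalKrullDim_eq_iSup G.hom]
    refine iSup_le fun g => ?_
    haveI := hp (f.left.base g)
    rw [← dim_fiber_eq_ker f g]
    have e : DimLib.ptDim G.hom g = DimLib.ptDim C.hom (f.left.base g) +
        DimLib.ptDim (k := C.left.residueField (f.left.base g)) (f.left.fiberToSpecResidueField (f.left.base g))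
          (f.left.asFiber g) := by
      have := DimLib.ptDim_eq_add_of_mem_fiber C.hom f.left g
      simp only [hw] at this
      exact this
    rw [e, Nat.cast_add]
    exact add_le_add (DimLib.ptDim_le_topologicalKrullDim C.hom _) (DimLib.ptDim_le_topologicalKrullDim _ _)
  · obtain ⟨ζ, -, hζ⟩ := DimLib.exists_maximal_specializes
      ((η[C] : 𝟙_ (Over 𝕊) ⟶ C).left.base (IsLocalRing.closedPoint k))
    rw [← AlgGrpLib.ptDim_eq_topologicalKrullDim_of_maximal C hζ]
    obtain ⟨x, hx⟩ := f.left.surjective ζ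
    haveI := hp ζ
    rw [← dim_fiber_eq_ker f x, hx]
    refine DimLib.add_topologicalKrullDim_le (k := C.left.residueField ζ) (f.left.fiberToSpecResidueField ζ) _ _
      fun z _ => ?_
    rw [← Nat.cast_add]
    have e := DimLib.ptDim_fiberι C.hom f.left ζ z
    simp only [hw] at e
    rw [← e]
    exact DimLib.ptDim_le_topologicalKrullDim G.hom _

theorem range_fst_homeo {S : Scheme.{u}} {G H : Over S} [GrpObj G] [GrpObj H] (u : G ⟶ H)
    [IsImmersion (η[H] : 𝟙_ (Over S) ⟶ H).left] :
    topologicalKrullDim ↥(pullback u.left (η[H] : 𝟙_ (Over S) ⟶ H).left) =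
      topologicalKrullDim ↥(u.left.base ⁻¹' Set.range (η[H] : 𝟙_ (Over S) ⟶ H).left.base) := by
  rw [← Scheme.Pullback.range_fst]
  exact (pullback.fst u.left _).isEmbedding.toHomeomorph.isHomeomorph.topologicalKrullDim_eq

theorem main_field {G H : Over 𝕊} [GrpObj G] [GrpObj H] [LocallyOfFiniteType G.hom] [LocallyOfFiniteType H.hom]
    (u : G ⟶ H) [IsMonHom u] [QuasiCompact u.left] :
    IsClosed (Set.range u.left.base) ∧
    topologicalKrullDim G.left = topologicalKrullDim ↥(Set.range u.left.base) +
      topologicalKrullDim ↥(u.left.base ⁻¹' Set.range (η[H] : 𝟙_ (Over 𝕊) ⟶ H).left.base) := by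
  obtain ⟨C, _, i, f, _, _, hfi, _, -, -, _⟩ := SGA3xLib.SchemImage26.exists_image u
  haveI : LocallyOfFiniteType C.hom := by rw [← Over.w i]; infer_instance
  haveI : IsImmersion (η[C] : 𝟙_ (Over 𝕊) ⟶ C).left := by
    haveI : IsImmersion ((η[C] : 𝟙_ (Over 𝕊) ⟶ C).left ≫ C.hom) := by
      rw [Over.w]; exact inferInstanceAs (IsImmersion (𝟙 𝕊))
    exact IsImmersion.of_comp _ C.hom
  have hu : Set.range u.left.base = Set.range i.left.base := by
    rw [← hfi, Over.comp_left, Scheme.Hom.comp_base, TopCat.coe_comp, Set.range_comp, f.left.surjective.range_eq,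
      Set.image_univ]
  have hη : (η[C] : 𝟙_ (Over 𝕊) ⟶ C) ≫ i = η[H] := IsMonHom.one_hom (f := i)
  have hker : u.left.base ⁻¹' Set.range (η[H] : 𝟙_ (Over 𝕊) ⟶ H).left.base =
      f.left.base ⁻¹' Set.range (η[C] : 𝟙_ (Over 𝕊) ⟶ C).left.base := by
    rw [← hfi, ← hη, Over.comp_left, Over.comp_left, Scheme.Hom.comp_base, Scheme.Hom.comp_base,
      TopCat.coe_comp, TopCat.coe_comp, Set.preimage_comp, Set.range_comp,
      i.left.isClosedEmbedding.injective.preimage_image]
  refine ⟨hu ▸ i.left.isClosedEmbedding.isClosed_range, ?_⟩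
  rw [hu, ← i.left.isEmbedding.toHomeomorph.isHomeomorph.topologicalKrullDim_eq, hker, ← range_fst_homeo f]
  exact dim_add f

end Groth.Agent.GrpImage26

namespace Groth.Agent.GrpImage26

open scoped CategoryTheory.Obj

theorem surjective_residue (A : Type u) [CommRing A] [IsArtinianRing A] [IsLocalRing A] :
    Surjective (Spec.map (CommRingCat.ofHom (IsLocalRing.residue A))) := by
  refine ⟨fun p => ⟨IsLocalRing.closedPoint (IsLocalRing.ResidueField A), ?_⟩⟩
  haveI : Subsingleton (PrimeSpectrum A) :=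
    ⟨fun x y => PrimeSpectrum.ext ((IsLocalRing.eq_maximalIdeal (inferInstance : x.asIdeal.IsMaximal)).trans
      (IsLocalRing.eq_maximalIdeal (inferInstance : y.asIdeal.IsMaximal)).symm)⟩
  exact @Subsingleton.elim (PrimeSpectrum A) _ _ p

theorem main_artinian (A : Type u) [CommRing A] [IsArtinianRing A] [IsLocalRing A]
    (G H : Over (Spec (CommRingCat.of A))) [GrpObj G] [GrpObj H] [LocallyOfFiniteType G.hom]
    [LocallyOfFiniteType H.hom] (u : G ⟶ H) [IsMonHom u] [QuasiCompact u.left] :
    IsClosed (Set.range u.left.base) ∧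
    topologicalKrullDim G.left =
      topologicalKrullDim (Set.range u.left.base) +
        topologicalKrullDim ↥(Limits.pullback u.left (η[H] : 𝟙_ (Over (Spec (CommRingCat.of A))) ⟶ H).left) := by
  let π := Spec.map (CommRingCat.ofHom (IsLocalRing.residue A))
  haveI : IsClosedImmersion π := IsClosedImmersion.spec_of_surjective _ IsLocalRing.residue_surjective
  haveI : Surjective π := surjective_residue A
  let F := Over.pullback π
  let G' := F.obj G
  let H' := F.obj H
  let u' : G' ⟶ H' := F.map u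
  haveI : LocallyOfFiniteType G'.hom := MorphismProperty.pullback_snd (P := @LocallyOfFiniteType) _ _ inferInstance
  haveI : LocallyOfFiniteType H'.hom := MorphismProperty.pullback_snd (P := @LocallyOfFiniteType) _ _ inferInstance
  let pG : G'.left ⟶ G.left := pullback.fst G.hom π
  let pH : H'.left ⟶ H.left := pullback.fst H.hom π
  have hsq : IsPullback u'.left pG pH u.left := by
    refine IsPullback.of_right ?_ ?_ (IsPullback.of_hasPullback H.hom π).flip
    · have h := (IsPullback.of_hasPullback G.hom π).flip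
      have w1 : u'.left ≫ pullback.snd H.hom π = pullback.snd G.hom π := Over.w u'
      rw [w1, Over.w u]
      exact h
    · exact pullback.lift_fst _ _ _
  haveI : QuasiCompact u'.left := MorphismProperty.of_isPullback (P := @QuasiCompact) hsq.flip inferInstance
  haveI : IsClosedImmersion pG := MorphismProperty.pullback_fst (P := @IsClosedImmersion) _ _ inferInstance
  haveI : IsClosedImmersion pH := MorphismProperty.pullback_fst (P := @IsClosedImmersion) _ _ inferInstance
  haveI : Surjective pG := MorphismProperty.pullback_fst (P := @Surjective) _ _ inferInstance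
  haveI : Surjective pH := MorphismProperty.pullback_fst (P := @Surjective) _ _ inferInstance
  obtain ⟨hcl, hdim⟩ := main_field u'
  have hcomm : ∀ x, u.left.base (pG.base x) = pH.base (u'.left.base x) := fun x => by
    have h := congrArg (fun r => r.base x) hsq.w
    exact h.symm
  have hrange : Set.range u.left.base = pH.base '' Set.range u'.left.base := by
    ext y
    constructor
    · rintro ⟨x, rfl⟩
      obtain ⟨x', rfl⟩ := pG.surjective x
      exact ⟨_, ⟨x', rfl⟩, (hcomm x').symm⟩
    · rintro ⟨_, ⟨x', rfl⟩, rfl⟩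
      exact ⟨_, hcomm x'⟩
  have hcl' : IsClosed (Set.range u.left.base) := by
    rw [hrange]; exact pH.isClosedEmbedding.isClosedMap _ hcl
  refine ⟨hcl', ?_⟩
  haveI : IsImmersion (η[H] : 𝟙_ (Over (Spec (CommRingCat.of A))) ⟶ H).left := by
    haveI : IsImmersion ((η[H] : 𝟙_ (Over (Spec (CommRingCat.of A))) ⟶ H).left ≫ H.hom) := by
      rw [Over.w]; exact inferInstanceAs (IsImmersion (𝟙 (Spec (CommRingCat.of A))))
    exact IsImmersion.of_comp _ H.hom
  rw [range_fst_homeo u]
  have eG := pG.isClosedEmbedding.isEmbedding.toHomeomorphOfSurjective pG.surjective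
  rw [← eG.isHomeomorph.topologicalKrullDim_eq, hdim]
  have e1 : topologicalKrullDim ↥(Set.range u.left.base) = topologicalKrullDim ↥(Set.range u'.left.base) := by
    rw [hrange]
    exact (pH.isEmbedding.homeomorphImage _).isHomeomorph.topologicalKrullDim_eq.symm
  have hone : pH.base '' Set.range (η[H'] : 𝟙_ _ ⟶ H').left.base =
      Set.range (η[H] : 𝟙_ (Over (Spec (CommRingCat.of A))) ⟶ H).left.base := by
    haveI : Subsingleton ↥(𝟙_ (Over (Spec (CommRingCat.of A)))).left :=
      ⟨fun a b => (show Subsingleton (PrimeSpectrum A) from ⟨fun x y => PrimeSpectrum.ext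
        ((IsLocalRing.eq_maximalIdeal (inferInstance : x.asIdeal.IsMaximal)).trans
          (IsLocalRing.eq_maximalIdeal (inferInstance : y.asIdeal.IsMaximal)).symm)⟩).elim a b⟩
    let t := IsLocalRing.closedPoint (IsLocalRing.ResidueField A)
    have key : (η[H'] : 𝟙_ _ ⟶ H').left ≫ pH = π ≫ (η[H] : 𝟙_ (Over (Spec (CommRingCat.of A))) ⟶ H).left := by
      have h1 : (η[H'] : 𝟙_ _ ⟶ H') = SGA3cLib.BCPoints.pt π H (𝟙_ _) 1 := by
        refine Eq.trans ?_ (map_one (MonoidHom.mk' (SGA3cLib.BCPoints.pt π H (𝟙_ (Over (Spec (CommRingCat.of (IsLocalRing.ResidueField A))))))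
          (SGA3cLib.BCPoints.pt_mul π))).symm
        exact (show η[H'] = toUnit (𝟙_ _) ≫ η[H'] by rw [toUnit_unique (toUnit _) (𝟙 _), Category.id_comp])
      rw [h1]
      refine Eq.trans ?_ (show ((1 : (Over.map π).obj (𝟙_ _) ⟶ H)).left = _ from ?_)
      · simp [SGA3cLib.BCPoints.pt, Over.mapPullbackAdj, pH]
        exact pullback.lift_fst _ _ _
      · show ((toUnit ((Over.map π).obj (𝟙_ _)) : _ ⟶ 𝟙_ (Over (Spec (CommRingCat.of A)))) ≫ η[H]).left = _
        rw [Over.comp_left]
        congr 1
    ext z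
    constructor
    · rintro ⟨_, ⟨w, rfl⟩, rfl⟩
      exact ⟨π.base w, (congrArg (fun r => r.base w) key).symm⟩
    · rintro ⟨w, rfl⟩
      exact ⟨_, ⟨t, rfl⟩, (congrArg (fun r => r.base t) key).trans (congrArg (η[H] : 𝟙_ (Over (Spec (CommRingCat.of A))) ⟶ H).left.base ((show Subsingleton ↥(𝟙_ (Over (Spec (CommRingCat.of A)))).left from inferInstance).elim (π.base t) w))⟩
  have e2 : topologicalKrullDim ↥(u.left.base ⁻¹' Set.range (η[H] : 𝟙_ (Over (Spec (CommRingCat.of A))) ⟶ H).left.base)
      = topologicalKrullDim ↥(u'.left.base ⁻¹' Set.range (η[H'] : 𝟙_ _ ⟶ H').left.base) := by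
    have : u.left.base ⁻¹' Set.range (η[H] : 𝟙_ (Over (Spec (CommRingCat.of A))) ⟶ H).left.base =
        pG.base '' (u'.left.base ⁻¹' Set.range (η[H'] : 𝟙_ _ ⟶ H').left.base) := by
      rw [← hone]
      ext x
      constructor
      · rintro ⟨z, hz, hzx⟩
        obtain ⟨x', rfl⟩ := pG.surjective x
        rw [hcomm] at hzx
        exact ⟨x', by rw [Set.mem_preimage, ← pH.isEmbedding.injective hzx]; exact hz, rfl⟩
      · rintro ⟨x', hx', rfl⟩
        exact ⟨_, hx', (hcomm x').symm⟩
    rw [this]
    exact (pG.isEmbedding.homeomorphImage _).isHomeomorph.topologicalKrullDim_eq.symm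
  rw [e1, e2]

end Groth.Agent.GrpImage26
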